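import Groth.Agent.EtMVLib.MV
import Groth.Prelude.Def_LefMon

/-! functoriality of the pullback on etale cohomology with constant coefficients -/

universe u

open CategoryTheory CategoryTheory.Limits AlgebraicGeometry Opposite CategoryTheory.Abelian

namespace EtHmapLib

set_option backward.isDefEq.respectTransparency false
set_option backward.isDefEq.respectTransparency.types false

open Groth.Agent.EtMVLib

variable {W U X : Scheme.{u}} (j : U ⟶ X) (w : W ⟶ X) (k : W ⟶ U) (e : k ≫ j = w)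

theorem pullSec_θ (G : EtCoh.Ab X) :
    (pullSec j).app G ≫ (pullSec k).app ((EtCoh.pull j).obj G) ≫
      (EtCore.gsec W).map ((θ j w k e).hom.app G) = (pullSec w).app G :=
  Groth.Agent.EtMVLib.pullSec_θ j w k e G

theorem pullConst_comp (M : Type) [AddCommGroup M] :
    (EtCore.pullConst k M).inv ≫ (EtCoh.pull k).map (EtCore.pullConst j M).inv ≫
      (θ j w k e).hom.app (EtCoh.const X M) = (EtCore.pullConst w M).inv := by
  apply ((EtCore.constAdj W).homEquiv _ _).injective
  have n1 := (pullSec k).naturality (EtCore.pullConst j M).inv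
  have hU : (EtCore.constAdj U).unit.app (AddCommGrpCat.of (ULift.{u + 1} M)) ≫
      (EtCore.gsec U).map (EtCore.pullConst j M).inv = _ :=
    ((EtCore.constAdj U).homEquiv_unit _ _ (EtCore.pullConst j M).inv).symm.trans
      (homEquiv_pullConst_inv j M)
  set c := (EtCore.pullConst j M).inv
  set t := (θ j w k e).hom.app (EtCoh.const X M)
  refine ((EtCore.constAdj W).homEquiv_naturality_right _ _).trans ?_
  refine (eq_whisker (homEquiv_pullConst_inv k M) _).trans ?_
  refine (whisker_eq _ (Functor.map_comp (EtCore.gsec W) _ _)).trans ?_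
  refine ((Category.assoc _ _ _).trans (whisker_eq _
    ((Category.assoc _ _ _).symm.trans (eq_whisker n1.symm _)))).trans ?_
  refine ((whisker_eq _ (Category.assoc _ _ _)).trans
    ((Category.assoc _ _ _).symm.trans (eq_whisker hU _))).trans ?_
  refine ((Category.assoc _ _ _).trans (whisker_eq _ (pullSec_θ j w k e _))).trans ?_
  exact (homEquiv_pullConst_inv w M).symm

theorem Hmap_apply {Y : Scheme.{u}} (ℓ : ℕ) (f : Y ⟶ X) (hf : PreservesFiniteLimits (EtCoh.pull f))
    (i ν : ℕ) (x : EtAdic.Hmod X ℓ i ν) :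
    EtAdic.Hmap ℓ f hf i ν x =
      ((Ext.mk₀ (EtCore.pullConst f ℤ).inv).comp (x.mapExactFunctor (EtCoh.pull f)) (zero_add i)).comp
        (Ext.mk₀ (EtCore.pullConst f (ZMod (ℓ ^ ν))).hom) (add_zero i) := rfl

include e in
theorem Hmap_comp (ℓ : ℕ) (hj : PreservesFiniteLimits (EtCoh.pull j))
    (hw : PreservesFiniteLimits (EtCoh.pull w)) (hk : PreservesFiniteLimits (EtCoh.pull k))
    (i ν : ℕ) (x : EtAdic.Hmod X ℓ i ν) :
    EtAdic.Hmap ℓ w hw i ν x = EtAdic.Hmap ℓ k hk i ν (EtAdic.Hmap ℓ j hj i ν x) := by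
  subst e
  have : PreservesFiniteLimits (EtCoh.pull j ⋙ EtCoh.pull k) := comp_preservesFiniteLimits _ _
  have : PreservesFiniteColimits (EtCoh.pull j ⋙ EtCoh.pull k) := comp_preservesFiniteColimits _ _
  have hM := pullConst_comp j (k ≫ j) k rfl (ZMod (ℓ ^ ν))
  have hZ := pullConst_comp j (k ≫ j) k rfl ℤ
  have hM' : (θ j (k ≫ j) k rfl).hom.app (EtCoh.const X (ZMod (ℓ ^ ν))) ≫
      (EtCore.pullConst (k ≫ j) (ZMod (ℓ ^ ν))).hom =
      (EtCoh.pull k).map (EtCore.pullConst j (ZMod (ℓ ^ ν))).hom ≫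
        (EtCore.pullConst k (ZMod (ℓ ^ ν))).hom := by
    rw [← cancel_epi ((EtCoh.pull k).map (EtCore.pullConst j (ZMod (ℓ ^ ν))).inv),
      ← cancel_epi (EtCore.pullConst k (ZMod (ℓ ^ ν))).inv, ← Category.assoc, ← Category.assoc,
      Category.assoc (EtCore.pullConst k (ZMod (ℓ ^ ν))).inv, hM, Iso.inv_hom_id,
      Iso.map_inv_hom_id_assoc, Iso.inv_hom_id]
  simp only [Hmap_apply]
  rw [Ext.mapExactFunctor_comp, Ext.mapExactFunctor_comp, Ext.mapExactFunctor_mk₀,
    Ext.mapExactFunctor_mk₀, ← mapExactFunctor_functorComp, ← hZ]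
  set t := (θ j (k ≫ j) k rfl).hom
  set a := (EtCore.pullConst k ℤ).inv
  set b := (EtCoh.pull k).map (EtCore.pullConst j ℤ).inv
  rw [← Category.assoc a b, ← Ext.mk₀_comp_mk₀_assoc, ← mapExactFunctor_natTrans]
  simp only [Ext.comp_assoc_of_third_deg_zero, Ext.mk₀_comp_mk₀, Ext.mk₀_comp_mk₀_assoc]
  erw [hM']

end EtHmapLib
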